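import Groth.Agent.Lib.Helper5.AlgSp.ValuativeDVR
import Groth.Agent.Lib.Helper5.AlgSp.ValuativeRefined
import Mathlib

/-!
# The valuative criterion with discrete valuation rings and extensions (helper3, after helper5)
-/

set_option autoImplicit false

universe u

open CategoryTheory CategoryTheory.Limits AlgebraicGeometry Opposite IsLocalRing

namespace Groth.Agent.H3.ValuativeDVRExt

open _root_.AlgSp Groth.Agent.H5.AlgSp

variable {S : Scheme.{u}} {F G H : Sp S}

/-- Existence of lifts after a dominating extension for valuative squares over discrete valuation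
rings. -/
def DvrLiftExt (f : F ⟶ G) : Prop :=
  ∀ sq : ValSq f, IsDiscreteValuationRing sq.A → sq.HasLiftExt

theorem dvrLiftExt_of_isPullback {F' : Sp S} {f : F ⟶ G} {g : H ⟶ G} {fst : F' ⟶ F} {f' : F' ⟶ H}
    (sqp : IsPullback fst f' f g) (hf : DvrLiftExt f) : DvrLiftExt f' := by
  intro sq hA
  exact hasLiftExt_of_isPullback sqp sq (hf (valSqOfIsPullback sqp sq) hA)

section Chart

variable {P : Sp S} {U Z : Over S} (a : (yon S).obj U ⟶ P) (q : P ⟶ (yon S).obj Z) (g : U ⟶ Z)
  (hg : a ≫ q = (yon S).map g)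

include hg in
theorem stableUnderSpecialization_image_of_dvrLiftExt [IsLocallyNoetherian Z.left]
    [LocallyOfFiniteType g.left] (ha : Function.Surjective (Points.ofPt a))
    (he : DvrLiftExt q) {W : Set (Points P)} (hW : IsClosed W) :
    StableUnderSpecialization (g.left '' (Points.ofPt a ⁻¹' W)) := by
  rintro _ y hspec ⟨u', hu', rfl⟩
  by_cases hne : g.left u' = y
  · exact ⟨u', hu', hne⟩
  obtain ⟨B, _, _, hB, u'', h', hcomm, hcl, hgen⟩ :=
    Groth.Agent.H8.DVRSch.exists_dvr_of_specializes_of_locallyOfFiniteType g.left u' hspec hne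
  let c : ValuativeCommSq g.left :=
    { R := B, K := FractionRing B, i₁ := u'', i₂ := h', commSq := ⟨hcomm.symm⟩ }
  obtain ⟨e, l, hl1, hl2⟩ := he (valSqOfChart a q g hg c) hB
  have hloc := e.isLocalHom
  have hφcp : (domExtA e).left (closedPoint e.A') = closedPoint B :=
    comap_closedPoint (S := e.A') e.φ
  have claim2 : Points.map q (Points.ofPt l (closedPoint e.A')) = Points.ofScheme Z y := by
    rw [Points.map_ofPt, hl2]
    change Points.ofPt ((yon S).map (domExtA e) ≫ (valSqOfChart a q g hg c).bot) _ = _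
    rw [ofPt_yon_map_comp, hφcp]
    change Points.ofPt ((yon S).map (Over.homMk c.i₂ rfl : Over.mk (c.i₂ ≫ Z.hom) ⟶ Z)) _ = _
    rw [← Category.comp_id ((yon S).map _), ofPt_yon_map_comp]
    exact congrArg _ hcl
  have claim1 : Points.ofPt l (closedPoint e.A') ∈ W := by
    refine hW.stableUnderSpecialization ?_ hu'
    have hη : Points.ofPt l ((domExtJ e).left (closedPoint e.K')) = Points.ofPt a u' := by
      rw [← ofPt_yon_map_comp, hl1]
      change Points.ofPt ((yon S).map (domExtK e) ≫ (valSqOfChart a q g hg c).top) _ = _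
      rw [ofPt_yon_map_comp]
      change Points.ofPt ((yon S).map (Over.homMk c.i₁ (valuativeCommSq_w g c) :
        Over.mk (Spec.map (CommRingCat.ofHom (algebraMap c.R c.K)) ≫ c.i₂ ≫ Z.hom) ⟶ U) ≫ a) _ = _
      rw [ofPt_yon_map_comp]
      congr 1
      have h0 : (domExtK e).left (closedPoint e.K') = closedPoint (FractionRing B) :=
        Subsingleton.elim (α := PrimeSpectrum (FractionRing B)) _ _
      change u'' ((domExtK e).left (closedPoint e.K')) = u'
      rw [h0]
      exact hgen
    rw [← hη]
    exact (specializes_closedPoint _).map (Points.continuous_ofPt l)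
  obtain ⟨u, hu⟩ := ha (Points.ofPt l (closedPoint e.A'))
  refine ⟨u, by rw [Set.mem_preimage, hu]; exact claim1, ?_⟩
  apply (Points.schemeHomeo Z).injective
  change Points.ofScheme Z (g.left u) = Points.ofScheme Z y
  rw [← claim2, ← hu, Points.map_ofPt, hg, ← Category.comp_id ((yon S).map g), ofPt_yon_map_comp]

end Chart

theorem isClosedMap_points_of_dvrLiftExt {P : Sp S} (hP : IsAlgSpace P) {T : Over S}
    [IsLocallyNoetherian T.left] (q : P ⟶ (yon S).obj T) (hqc : IsQuasiCompactMor q)
    (hlft : LocP @LocallyOfFiniteType q) (he : DvrLiftExt q) : IsClosedMap (Points.map q) := by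
  refine isClosedMap_points_of_openCover q (fun W : T.left.affineOpens => W.1) ?_ ?_
  · intro z
    obtain ⟨_, ⟨W, hW, rfl⟩, hzW, -⟩ :=
      T.left.isBasis_affineOpens.exists_subset_of_mem_open (Set.mem_univ z) isOpen_univ
    exact ⟨⟨W, hW⟩, hzW⟩
  rintro ⟨W, hW⟩
  have sq := IsPullback.of_hasPullback q ((yon S).map (overOpenι T W))
  set q' := pullback.snd q ((yon S).map (overOpenι T W))
  set fst := pullback.fst q ((yon S).map (overOpenι T W))
  have : IsAffine (overOpen T W).left := hW
  have : IsLocallyNoetherian (overOpen T W).left :=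
    isLocallyNoetherian_of_isOpenImmersion W.ι
  have hPq : IsQuasiCompactSp (pullback q ((yon S).map (overOpenι T W))) :=
    hqc (IsAlgSpace.yon_obj _) ((isQuasiCompactSp_yon_iff _).2 inferInstance) _ fst q' sq
  have hlft' : LocP @LocallyOfFiniteType q' :=
    locP_of_isPullback etale_le_lft sq hP (IsAlgSpace.yon_obj _) (IsAlgSpace.yon_obj _) hlft
  have he' : DvrLiftExt q' := dvrLiftExt_of_isPullback sq he
  obtain ⟨U, a, hae, has, hU⟩ := hPq
  have : CompactSpace U.left := hU
  obtain ⟨g', hg'⟩ := (yon S).map_surjective (a ≫ q')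
  have : LocallyOfFiniteType g'.left :=
    hlft' a (𝟙 _) g' hae (repWith_id _ _) (by rw [hg', Category.comp_id])
  have hsurj := ofPt_surjective_of_repWith has
  intro C hC
  have hst := stableUnderSpecialization_image_of_dvrLiftExt a q' g' hg'.symm hsurj he' hC
  have hcl : IsClosed (g'.left '' (Points.ofPt a ⁻¹' C)) :=
    isClosed_image_of_stableUnderSpecialization g'.left
      (hC.preimage (Points.continuous_ofPt a)) hst
  have himg : Points.map q' '' C =
      Points.schemeHomeo (overOpen T W) '' (g'.left '' (Points.ofPt a ⁻¹' C)) := by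
    ext z
    constructor
    · rintro ⟨x, hx, rfl⟩
      obtain ⟨u, rfl⟩ := hsurj x
      refine ⟨g'.left u, ⟨u, hx, rfl⟩, ?_⟩
      change Points.ofScheme _ (g'.left u) = _
      rw [Points.map_ofPt, ← hg', ← Category.comp_id ((yon S).map g'), ofPt_yon_map_comp]
    · rintro ⟨_, ⟨u, hu, rfl⟩, rfl⟩
      refine ⟨Points.ofPt a u, hu, ?_⟩
      change _ = Points.ofScheme _ (g'.left u)
      rw [Points.map_ofPt, ← hg', ← Category.comp_id ((yon S).map g'), ofPt_yon_map_comp]
  rw [himg]
  exact (Points.schemeHomeo (overOpen T W)).isClosedMap _ hcl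

/-- **A morphism of finite type to a locally Noetherian algebraic space which has lifts after
extension for discrete valuation rings is universally closed.** -/
theorem isUnivClosedMor_of_dvrLiftExt {X Y : Sp S} (hX : IsAlgSpace X) (hY : IsAlgSpace Y)
    {f : X ⟶ Y} (hft : IsFiniteTypeMor f) (hYn : IsLocNoethSp Y) (he : DvrLiftExt f) :
    IsUnivClosedMor f := by
  obtain ⟨V, p, hpe, hps, hV⟩ := hYn
  have : IsLocallyNoetherian V.left := hV
  refine Groth.Agent.H5.UC.isUnivClosedMor_of_affineSpace hX hY hft.2 p hpe hps ?_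
  intro n
  let T : Over S := Over.mk ((𝔸(ULift.{u} (Fin n); V.left) ↘ V.left) ≫ V.hom)
  let c : T ⟶ V := Over.homMk (𝔸(ULift.{u} (Fin n); V.left) ↘ V.left)
  have : IsLocallyNoetherian T.left :=
    LocallyOfFiniteType.isLocallyNoetherian (𝔸(ULift.{u} (Fin n); V.left) ↘ V.left)
  have sq := IsPullback.of_hasPullback f ((yon S).map c ≫ p)
  have hP : IsAlgSpace (pullback f ((yon S).map c ≫ p)) :=
    isAlgSpace_pullback hY.diag hX (IsAlgSpace.yon_obj T) sq
  exact isClosedMap_points_of_dvrLiftExt hP _
    (isQuasiCompactMor_of_isPullback sq hft.2)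
    (locP_of_isPullback etale_le_lft sq hX hY (IsAlgSpace.yon_obj T) hft.1)
    (dvrLiftExt_of_isPullback sq he)

end Groth.Agent.H3.ValuativeDVRExt
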