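import Groth.Agent.Lib.Helper5.AlgSp.ValuativeExist
import Groth.Agent.Lib.Helper5.AlgSp.DecentGen
import Groth.Agent.Lib.Helper5.AlgSp.Decent
import Mathlib

/-!
# Decent universally closed morphisms satisfy the existence part of the valuative criterion
(helper3, after helper5's quasi-separated version)
-/

set_option autoImplicit false

universe u

open CategoryTheory CategoryTheory.Limits AlgebraicGeometry Opposite IsLocalRing

namespace Groth.Agent.H3.ValuativeDecent

open _root_.AlgSp Groth.Agent.H5.AlgSp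

variable {S : Scheme.{u}}

/-- **A decent universally closed morphism of algebraic spaces satisfies the existence part of the
valuative criterion.** -/
theorem existVC_of_isUnivClosedMor_of_isDecentMor {X Y : Sp S} (hX : IsAlgSpace X)
    (hY : IsAlgSpace Y) {f : X ⟶ Y} (hd : IsDecentMor f) (hc : IsUnivClosedMor f) : ExistVC f := by
  intro sq
  have sqP := IsPullback.of_hasPullback f sq.bot
  have hP : IsAlgSpace (pullback f sq.bot) :=
    isAlgSpace_pullback hY.diag hX (IsAlgSpace.yon_obj _) sqP
  have hPd : IsDecent (pullback f sq.bot) := hd sq.bot _ _ sqP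
  have hcl : IsClosedMap (Points.map (pullback.snd f sq.bot)) :=
    hc (IsAlgSpace.yon_obj sq.ptA) sq.bot _ _ sqP
  -- the section over the generic point
  have hσ1 : pullback.lift sq.top ((yon S).map sq.j) sq.comm ≫ pullback.fst f sq.bot = sq.top :=
    pullback.lift_fst _ _ _
  have hσ2 : pullback.lift sq.top ((yon S).map sq.j) sq.comm ≫ pullback.snd f sq.bot =
      (yon S).map sq.j := pullback.lift_snd _ _ _
  obtain ⟨σ, hσ⟩ : ∃ σ, σ = pullback.lift sq.top ((yon S).map sq.j) sq.comm := ⟨_, rfl⟩
  rw [← hσ] at hσ1 hσ2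
  -- a specialization over the closed point
  obtain ⟨x₀, hxx₀, hx₀q⟩ : ∃ x₀, Points.ofPt σ (closedPoint sq.K) ⤳ x₀ ∧
      Points.map (pullback.snd f sq.bot) x₀ = Points.ofScheme sq.ptA (closedPoint sq.A) := by
    have hC := hcl _ (isClosed_closure (s := {Points.ofPt σ (closedPoint sq.K)}))
    have hmem : Points.map (pullback.snd f sq.bot) (Points.ofPt σ (closedPoint sq.K)) ∈
        Points.map (pullback.snd f sq.bot) '' closure {Points.ofPt σ (closedPoint sq.K)} :=
      ⟨_, subset_closure rfl, rfl⟩
    have hsp : Points.map (pullback.snd f sq.bot) (Points.ofPt σ (closedPoint sq.K)) ⤳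
        Points.ofScheme sq.ptA (closedPoint sq.A) := by
      rw [Points.map_ofPt, hσ2, ← Category.comp_id ((yon S).map sq.j), ofPt_yon_map_comp]
      exact (specializes_closedPoint _).map (Points.continuous_ofPt _)
    obtain ⟨x₀, hx₀, h⟩ := hC.stableUnderSpecialization hsp hmem
    exact ⟨x₀, specializes_iff_mem_closure.2 hx₀, h⟩
  -- an étale chart through `x₀`
  obtain ⟨U₁, a₁, ha₁e, ha₁s⟩ := hP.atlas
  obtain ⟨u₁, hu₁⟩ := ofPt_surjective_of_repWith ha₁s x₀
  obtain ⟨u, huu₀, hux⟩ := exists_specializes_ofPt_of_fieldPt hxx₀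
    (hPd (Points.ofPt σ (closedPoint sq.K))) a₁ ha₁e u₁ hu₁
  obtain ⟨g, hg⟩ := (yon S).map_surjective (a₁ ≫ pullback.snd f sq.bot)
  have hu₀ : g.left u₁ = closedPoint sq.A := by
    apply (Points.schemeHomeo sq.ptA).injective
    change Points.ofScheme sq.ptA _ = Points.ofScheme sq.ptA _
    rw [← hx₀q, ← hu₁, Points.map_ofPt, ← hg, ← Category.comp_id ((yon S).map g),
      ofPt_yon_map_comp]
  exact exists_domExt_hasLift_of_specializes sq sqP σ hσ1 hσ2 _ g hg.symm huu₀ hu₀ hux

/-- **A universally closed morphism from a decent algebraic space satisfies the existence part of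
the valuative criterion.** -/
theorem existVC_of_isUnivClosedMor_of_isDecent {X Y : Sp S} (hX : IsAlgSpace X)
    (hY : IsAlgSpace Y) {f : X ⟶ Y} (hd : IsDecent X) (hc : IsUnivClosedMor f) : ExistVC f :=
  existVC_of_isUnivClosedMor_of_isDecentMor hX hY (isDecentMor_of_isDecent hY f hd) hc

end Groth.Agent.H3.ValuativeDecent
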